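import Groth.Agent.H17.CMInter.TorVanish
import Groth.Agent.H17.KoszSh.CM
import Groth.Agent.H29Slice.TransBC
import Groth.Prelude.Def_RegImm

/-!
# Proper intersections of regular immersions in Cohen–Macaulay schemes
-/

set_option autoImplicit false
universe u

open CategoryTheory AlgebraicGeometry TopologicalSpace Limits RingTheory.Sequence TensorProduct

noncomputable section

namespace Groth.Agent.H17.CMInter

variable {X Y Z : Scheme.{u}}

theorem ker_app_eq (i : Y ⟶ X) [IsClosedImmersion i] (U : X.affineOpens) :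
    RingHom.ker (i.app U.1).hom = i.ker.ideal U := (i.ker_apply U).symm

theorem mem_range_iff (i : Y ⟶ X) [IsClosedImmersion i] (U : X.affineOpens) (x : X) (hx : x ∈ U.1) :
    x ∈ Set.range i ↔ ∀ f ∈ i.ker.ideal U, x ∉ X.basicOpen f := by
  rw [← i.isClosedEmbedding.isClosed_range.closure_eq, ← Scheme.Hom.support_ker, SetLike.mem_coe,
    Scheme.IdealSheafData.mem_support_iff_of_mem hx, Scheme.mem_zeroLocus_iff]
  rfl

theorem map_germ_eq_top (i : Y ⟶ X) [IsClosedImmersion i] (U : X.affineOpens) (x : X) (hx : x ∈ U.1)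
    (h : x ∉ Set.range i) : (i.ker.ideal U).map (X.presheaf.germ U.1 x hx).hom = ⊤ := by
  rw [mem_range_iff i U x hx] at h
  push Not at h
  obtain ⟨f, hf, hxf⟩ := h
  exact Ideal.eq_top_of_isUnit_mem _ (Ideal.mem_map_of_mem _ hf) ((X.mem_basicOpen f x hx).1 hxf)

/-- A regular immersion is cut out at each point by a regular sequence of germs. -/
theorem stalk_gens (i : Y ⟶ X) [IsClosedImmersion i] {a : ℕ}
    (h : RegImm.IsRegularImmersionOfCodim .regular a i) (y : Y) (x : X) (hyx : i y = x)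
    (U : X.affineOpens) (hx : x ∈ U.1) :
    ∃ ys : List (X.presheaf.stalk x), ys.length = a ∧ IsWeaklyRegular (X.presheaf.stalk x) ys ∧
      (i.ker.ideal U).map (X.presheaf.germ U.1 x hx).hom = Ideal.ofList ys := by
  subst hyx
  obtain ⟨W, hyW, -, rs, hlen, hrs, hker⟩ := h.2 y
  letI := TopCat.Presheaf.algebra_section_stalk X.presheaf (⟨i y, hyW⟩ : W.1)
  haveI := W.2.isLocalization_stalk ⟨i y, hyW⟩
  haveI : Module.Flat Γ(X, W.1) (X.presheaf.stalk (i y)) :=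
    IsLocalization.flat _ (W.2.primeIdealOf ⟨i y, hyW⟩).asIdeal.primeCompl
  refine ⟨rs.map (algebraMap Γ(X, W.1) (X.presheaf.stalk (i y))), by rw [List.length_map, hlen],
    hrs.toIsWeaklyRegular.of_flat, ?_⟩
  rw [← H13CInt.ker_stalkMap i y U hx, H13CInt.ker_stalkMap i y W hyW, ← ker_app_eq, hker, Ideal.map_ofList]
  rfl

variable (iY : Y ⟶ X) (iZ : Z ⟶ X) [IsClosedImmersion iY] [IsClosedImmersion iZ] {a b : ℕ}

theorem ker_fst_comp : (pullback.fst iY iZ ≫ iY).ker = iY.ker ⊔ iZ.ker := by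
  refine le_antisymm ?_ (sup_le (Scheme.Hom.le_ker_comp _ _) ?_)
  · set K := iY.ker ⊔ iZ.ker with hK
    let l₁ := IsClosedImmersion.lift iY K.subschemeι (by rw [Scheme.IdealSheafData.ker_subschemeι]; exact le_sup_left)
    let l₂ := IsClosedImmersion.lift iZ K.subschemeι (by rw [Scheme.IdealSheafData.ker_subschemeι]; exact le_sup_right)
    have h₁ : l₁ ≫ iY = K.subschemeι := IsClosedImmersion.lift_fac _ _ _
    have h₂ : l₂ ≫ iZ = K.subschemeι := IsClosedImmersion.lift_fac _ _ _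
    have h : pullback.lift l₁ l₂ (h₁.trans h₂.symm) ≫ pullback.fst iY iZ ≫ iY = K.subschemeι := by
      rw [pullback.lift_fst_assoc, h₁]
    calc (pullback.fst iY iZ ≫ iY).ker
        ≤ (pullback.lift l₁ l₂ (h₁.trans h₂.symm) ≫ pullback.fst iY iZ ≫ iY).ker := Scheme.Hom.le_ker_comp _ _
      _ = K := by rw [h, Scheme.IdealSheafData.ker_subschemeι]
  · rw [pullback.condition]
    exact Scheme.Hom.le_ker_comp _ _

theorem le_height_map_germ
    (hcodim : ∀ w : ↥(pullback iY iZ), ((a + b : ℕ) : WithBot ℕ∞) ≤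
      ringKrullDim (X.presheaf.stalk ((pullback.fst iY iZ ≫ iY).base w)))
    (U : X.affineOpens) (x : X) (hx : x ∈ U.1) :
    ((a + b : ℕ) : ℕ∞) ≤ ((iY.ker.ideal U ⊔ iZ.ker.ideal U).map (X.presheaf.germ U.1 x hx).hom).height := by
  letI := TopCat.Presheaf.algebra_section_stalk X.presheaf (⟨x, hx⟩ : U.1)
  haveI := U.2.isLocalization_stalk ⟨x, hx⟩
  rw [Ideal.height_eq_inf_minimalPrimes]
  refine le_iInf₂ fun q hq => ?_
  haveI := hq.1.1
  haveI : (q.comap (algebraMap Γ(X, U.1) (X.presheaf.stalk x))).IsPrime := Ideal.IsPrime.comap _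
  rw [← IsLocalization.height_comap (U.2.primeIdealOf ⟨x, hx⟩).asIdeal.primeCompl q]
  set q' := q.comap (algebraMap Γ(X, U.1) (X.presheaf.stalk x)) with hq'
  have hle : iY.ker.ideal U ⊔ iZ.ker.ideal U ≤ q' := Ideal.map_le_iff_le_comap.1 hq.1.2
  let P : PrimeSpectrum Γ(X, U.1) := ⟨q', inferInstance⟩
  have hPU : U.2.fromSpec P ∈ U.1 := by
    have := Set.mem_range_self (f := U.2.fromSpec) P
    rwa [U.2.range_fromSpec] at this
  have hpr : U.2.primeIdealOf ⟨U.2.fromSpec P, hPU⟩ = P :=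
    U.2.fromSpec.isOpenEmbedding.injective (U.2.fromSpec_primeIdealOf ⟨_, hPU⟩)
  have hmem : ∀ (f : Γ(X, U.1)), f ∈ q' → U.2.fromSpec P ∉ X.basicOpen f := fun f hf hb => by
    have : P ∈ U.2.fromSpec ⁻¹ᵁ X.basicOpen f := hb
    rw [U.2.fromSpec_preimage_basicOpen] at this
    exact this hf
  obtain ⟨y', hy'⟩ := (mem_range_iff iY U _ hPU).2 fun f hf => hmem f (hle (Submodule.mem_sup_left hf))
  obtain ⟨z', hz'⟩ := (mem_range_iff iZ U _ hPU).2 fun f hf => hmem f (hle (Submodule.mem_sup_right hf))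
  obtain ⟨w, hw1, -⟩ := Scheme.Pullback.exists_preimage_pullback (f := iY) (g := iZ) y' z' (hy'.trans hz'.symm)
  have hd := hcodim w
  rw [show (pullback.fst iY iZ ≫ iY).base w = U.2.fromSpec P by
    rw [← hy', ← hw1]; rfl] at hd
  letI := TopCat.Presheaf.algebra_section_stalk X.presheaf (⟨U.2.fromSpec P, hPU⟩ : U.1)
  haveI := U.2.isLocalization_stalk ⟨U.2.fromSpec P, hPU⟩
  rw [IsLocalization.AtPrime.ringKrullDim_eq_height (U.2.primeIdealOf ⟨U.2.fromSpec P, hPU⟩).asIdeal, hpr] at hd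
  exact WithBot.coe_le_coe.1 hd

variable [IsLocallyNoetherian X] (hCM : ∀ x : X, LocCoh.IsCohenMacaulayLocalRing (X.presheaf.stalk x))
  (hY : RegImm.IsRegularImmersionOfCodim RegImm.Kind.regular a iY)
  (hZ : RegImm.IsRegularImmersionOfCodim RegImm.Kind.regular b iZ)
  (hcodim : ∀ w : ↥(pullback iY iZ), ((a + b : ℕ) : WithBot ℕ∞) ≤
    ringKrullDim (X.presheaf.stalk ((pullback.fst iY iZ ≫ iY).base w)))

include hCM hY hZ hcodim in
theorem regular_inter : RegImm.IsRegularImmersionOfCodim RegImm.Kind.regular (a + b)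
    (pullback.fst iY iZ ≫ iY) := by
  refine ⟨inferInstance, fun w => ?_⟩
  let x : X := (pullback.fst iY iZ ≫ iY) w
  have hx2 : iZ (pullback.snd iY iZ w) = x := by
    show (pullback.snd iY iZ ≫ iZ) w = (pullback.fst iY iZ ≫ iY) w
    rw [pullback.condition]
  obtain ⟨UY, hyUY, -, ry, hly, -, hky⟩ := hY.2 (pullback.fst iY iZ w)
  obtain ⟨UZ, hzUZ, -, rz, hlz, -, hkz⟩ := hZ.2 (pullback.snd iY iZ w)
  obtain ⟨g, g', hgg', hxg⟩ := exists_basicOpen_le_affine_inter UY.2 UZ.2 x ⟨hyUY, hx2 ▸ hzUZ⟩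
  let V : X.affineOpens := X.affineBasicOpen g
  have hVY : V.1 ≤ UY.1 := X.basicOpen_le g
  have hVZ : V.1 ≤ UZ.1 := by show X.basicOpen g ≤ UZ.1; rw [hgg']; exact X.basicOpen_le g'
  have hxV : (pullback.fst iY iZ ≫ iY) w ∈ V.1 := hxg
  let gs : List Γ(X, V.1) := ry.map (X.presheaf.map (homOfLE hVY).op).hom ++ rz.map (X.presheaf.map (homOfLE hVZ).op).hom
  have hlen : gs.length = a + b := by simp [gs, hly, hlz]
  let f : Fin (a + b) → Γ(X, V.1) := fun k => gs.get (k.cast hlen.symm)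
  have hg : (pullback.fst iY iZ ≫ iY).ker.ideal V = Ideal.span (Set.range f) := by
    rw [ker_fst_comp, Scheme.IdealSheafData.ideal_sup, Pi.sup_apply, ← iY.ker.map_ideal (U := V) (V := UY) hVY,
      ← iZ.ker.map_ideal (U := V) (V := UZ) hVZ, ← ker_app_eq, hky, ← ker_app_eq, hkz, Ideal.map_ofList,
      Ideal.map_ofList, ← Ideal.ofList_append]
    refine congrArg Ideal.span (Set.ext fun r => ?_)
    show r ∈ gs ↔ _
    rw [List.mem_iff_get]
    exact ⟨fun ⟨k, hk⟩ => ⟨k.cast hlen, by simpa [f] using hk⟩, fun ⟨k, hk⟩ => ⟨_, hk⟩⟩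
  have hh : ((a + b : ℕ) : ℕ∞) ≤ (RingHom.ker ((pullback.fst iY iZ ≫ iY).stalkMap w).hom).height := by
    rw [H13CInt.ker_stalkMap _ w V hxV, ker_fst_comp]
    exact le_height_map_germ iY iZ hcodim V _ hxV
  obtain ⟨W, hxW, f', hf', hreg⟩ := KoszSh.exists_regular_gens hCM _ (a + b) w V hxV f hg hh
  have hker : RingHom.ker ((pullback.fst iY iZ ≫ iY).app W.1).hom = Ideal.ofList (List.ofFn f') := by
    rw [ker_app_eq, hf', H13CInt.ofList_ofFn]
  exact ⟨W, hxW, MorphismProperty.of_isPullback (P := @IsClosedImmersion)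
    (isPullback_morphismRestrict _ W.1).flip inferInstance, List.ofFn f', List.length_ofFn,
    H29Slice.isRegular_of_mem _ w hxW hreg hker, hker⟩

include hCM hY hZ hcodim in
/-- Regularity of the germs of the second sequence after killing the first. -/
theorem exists_gens_regular (U : X.affineOpens) (x : X) (hx : x ∈ U.1) :
    ∃ zs : List (X.presheaf.stalk x), IsWeaklyRegular (X.presheaf.stalk x) zs ∧
      (iZ.ker.ideal U).map (X.presheaf.germ U.1 x hx).hom = Ideal.ofList zs ∧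
      IsWeaklyRegular (X.presheaf.stalk x ⧸ (iY.ker.ideal U).map (X.presheaf.germ U.1 x hx).hom) zs := by
  by_cases hxZ : x ∈ Set.range iZ
  swap
  · refine ⟨[1], ?_, ?_, ?_⟩
    · exact (isWeaklyRegular_singleton_iff _ _).2 (IsSMulRegular.one _)
    · rw [map_germ_eq_top iZ U x hx hxZ]; simp [Ideal.ofList]
    · exact (isWeaklyRegular_singleton_iff _ _).2 (IsSMulRegular.one _)
  obtain ⟨z, hz⟩ := hxZ
  obtain ⟨zs, hlz, hrz, hkz⟩ := stalk_gens iZ hZ z x hz U hx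
  refine ⟨zs, hrz, hkz, ?_⟩
  by_cases hxY : x ∈ Set.range iY
  swap
  · rw [map_germ_eq_top iY U x hx hxY]
    haveI : Subsingleton (X.presheaf.stalk x ⧸ (⊤ : Ideal (X.presheaf.stalk x))) :=
      Ideal.Quotient.subsingleton_iff.2 rfl
    exact (isWeaklyRegular_iff _ _).2 fun i hi => fun _ _ _ => Subsingleton.elim _ _
  obtain ⟨y, hy⟩ := hxY
  obtain ⟨ys, hly, hry, hky⟩ := stalk_gens iY hY y x hy U hx
  rw [hky]
  haveI := hCM x
  have hlen : (ys ++ zs).length = a + b := by simp [hly, hlz]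
  let f : Fin (a + b) → X.presheaf.stalk x := fun k => (ys ++ zs).get (k.cast hlen.symm)
  have hlist : List.ofFn f = ys ++ zs := by
    refine List.ext_getElem (by simp [hlen, hly, hlz]) fun k h1 h2 => ?_
    simp [f]
  have hspan : Ideal.span (Set.range f) = Ideal.ofList ys ⊔ Ideal.ofList zs := by
    rw [← Ideal.ofList_append, ← hlist, H13CInt.ofList_ofFn]
  have hreg : IsWeaklyRegular (X.presheaf.stalk x) (List.ofFn f) := by
    refine KoszSh.isWeaklyRegular_of_le_height f ?_ ?_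
    · rw [hspan, ← hky, ← hkz, ← Ideal.map_sup]
      intro htop
      obtain ⟨w, hw1, -⟩ := Scheme.Pullback.exists_preimage_pullback (f := iY) (g := iZ) y z (hy.trans hz.symm)
      subst hy
      subst hw1
      have := RingHom.ker_ne_top ((pullback.fst iY iZ ≫ iY).stalkMap w).hom
      rw [H13CInt.ker_stalkMap _ w U hx, ker_fst_comp] at this
      exact this htop
    · rw [hspan, ← hky, ← hkz, ← Ideal.map_sup]
      exact le_height_map_germ iY iZ hcodim U x hx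
  rw [hlist, isWeaklyRegular_append_iff] at hreg
  exact ((Submodule.quotEquivOfEq _ _ (by rw [smul_eq_mul, Ideal.mul_top])).isWeaklyRegular_congr zs).1 hreg.2

include hCM hY hZ hcodim in
theorem tor_vanish (U : X.Opens) (hU : IsAffineOpen U) (i : ℕ) (hi : 0 < i) :
    Subsingleton (@DRing.Tor Γ(X, U) _ i Γ(Y, iY ⁻¹ᵁ U) Γ(Z, iZ ⁻¹ᵁ U) _ (iY.app U).hom.toModule _
      (iZ.app U).hom.toModule) := by
  obtain ⟨n, rfl⟩ : ∃ n, i = n + 1 := ⟨i - 1, by omega⟩
  letI : Algebra Γ(X, U) Γ(Y, iY ⁻¹ᵁ U) := (iY.app U).hom.toAlgebra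
  letI : Algebra Γ(X, U) Γ(Z, iZ ⁻¹ᵁ U) := (iZ.app U).hom.toAlgebra
  haveI : IsAffine U := hU
  let M : H1TorFlip.Md Γ(X, U) := ModuleCat.of Γ(X, U) Γ(Y, iY ⁻¹ᵁ U)
  have hsY : Function.Surjective (iY.app U).hom := iY.app_surjective U hU
  have hsZ : Function.Surjective (iZ.app U).hom := iZ.app_surjective U hU
  let eY := (Ideal.quotientKerAlgEquivOfSurjective (f := Algebra.ofId Γ(X, U) Γ(Y, iY ⁻¹ᵁ U)) hsY).toLinearEquiv
  let eZ := (Ideal.quotientKerAlgEquivOfSurjective (f := Algebra.ofId Γ(X, U) Γ(Z, iZ ⁻¹ᵁ U)) hsZ).toLinearEquiv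
  have hEx : H1TorFlip.Ex M n Γ(Z, iZ ⁻¹ᵁ U) := by
    refine ex_of_localized M n _ fun p hp => ?_
    have hPU : hU.fromSpec ⟨p, hp⟩ ∈ U := by
      have := Set.mem_range_self (f := hU.fromSpec) (⟨p, hp⟩ : PrimeSpectrum Γ(X, U))
      rwa [hU.range_fromSpec] at this
    have hpr : hU.primeIdealOf ⟨_, hPU⟩ = ⟨p, hp⟩ :=
      hU.fromSpec.isOpenEmbedding.injective (hU.fromSpec_primeIdealOf ⟨_, hPU⟩)
    letI := TopCat.Presheaf.algebra_section_stalk X.presheaf (⟨_, hPU⟩ : U)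
    haveI : IsLocalization.AtPrime (X.presheaf.stalk (hU.fromSpec ⟨p, hp⟩)) p := by
      exact hU.isLocalization_stalk' ⟨p, hp⟩ hPU
    haveI : Module.Flat Γ(X, U) (X.presheaf.stalk (hU.fromSpec ⟨p, hp⟩)) := IsLocalization.flat _ p.primeCompl
    obtain ⟨zs, hzr, hzJ, hzI⟩ := exists_gens_regular iY iZ hCM hY hZ hcodim ⟨U, hU⟩ _ hPU
    let eM : ((X.presheaf.stalk (hU.fromSpec ⟨p, hp⟩)) ⧸ (iY.ker.ideal ⟨U, hU⟩).map (algebraMap Γ(X, U) (X.presheaf.stalk (hU.fromSpec ⟨p, hp⟩)))) ≃ₗ[(X.presheaf.stalk (hU.fromSpec ⟨p, hp⟩))] (X.presheaf.stalk (hU.fromSpec ⟨p, hp⟩)) ⊗[Γ(X, U)] M :=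
      (Algebra.TensorProduct.quotIdealMapEquivTensorQuot (X.presheaf.stalk (hU.fromSpec ⟨p, hp⟩)) (iY.ker.ideal ⟨U, hU⟩)).toLinearEquiv ≪≫ₗ
        LinearEquiv.baseChange Γ(X, U) (X.presheaf.stalk (hU.fromSpec ⟨p, hp⟩)) _ _
          ((Submodule.quotEquivOfEq _ _ (ker_app_eq iY ⟨U, hU⟩).symm) ≪≫ₗ eY)
    let eN : ((X.presheaf.stalk (hU.fromSpec ⟨p, hp⟩)) ⧸ (Ideal.ofList zs • ⊤ : Submodule (X.presheaf.stalk (hU.fromSpec ⟨p, hp⟩)) (X.presheaf.stalk (hU.fromSpec ⟨p, hp⟩)))) ≃ₗ[Γ(X, U)] Localization.AtPrime p ⊗[Γ(X, U)] Γ(Z, iZ ⁻¹ᵁ U) :=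
      ((Submodule.quotEquivOfEq (Ideal.ofList zs • ⊤) ((iZ.ker.ideal ⟨U, hU⟩).map (algebraMap Γ(X, U) (X.presheaf.stalk (hU.fromSpec ⟨p, hp⟩))))
          (by rw [smul_eq_mul, Ideal.mul_top]; exact hzJ.symm)).restrictScalars Γ(X, U)) ≪≫ₗ
      ((Algebra.TensorProduct.quotIdealMapEquivTensorQuot (X.presheaf.stalk (hU.fromSpec ⟨p, hp⟩)) (iZ.ker.ideal ⟨U, hU⟩)).toLinearEquiv.restrictScalars Γ(X, U)) ≪≫ₗ
      TensorProduct.congr (IsLocalization.algEquiv p.primeCompl (X.presheaf.stalk (hU.fromSpec ⟨p, hp⟩)) (Localization.AtPrime p)).toLinearEquiv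
        ((Submodule.quotEquivOfEq _ _ (ker_app_eq iZ ⟨U, hU⟩).symm) ≪≫ₗ eZ)
    refine ex_of_equiv M eN (ex_quotient M (X.presheaf.stalk (hU.fromSpec ⟨p, hp⟩)) zs (X.presheaf.stalk (hU.fromSpec ⟨p, hp⟩)) (H1TorFlip.ex_of_flat M (X.presheaf.stalk (hU.fromSpec ⟨p, hp⟩))) hzr ?_ n)
    exact (eM.isWeaklyRegular_congr zs).1 hzI
  exact ModuleCat.subsingleton_of_isZero (isZero_of_ex M n _ hEx)

end Groth.Agent.H17.CMInter
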