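import Groth.Agent.H1TorFlip.Acyclic
import Groth.Prelude.Def_DRing2
import Mathlib

/-!
# Tor vanishing from regular sequences, checked locally
-/

set_option autoImplicit false
universe u

open CategoryTheory Limits TensorProduct RingTheory.Sequence

namespace Groth.Agent.H17.CMInter

open H1TorFlip

variable {R : Type u} [CommRing R] (M : Md R)

theorem isZero_of_ex (n : ℕ) (N : Type u) [AddCommGroup N] [Module R N] (h : Ex M n N) :
    IsZero (((Tor (Md R) (n + 1)).obj M).obj (ModuleCat.of R N)) := by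
  have h2 : (sc R n (ModuleCat.of R N) M).Exact :=
    (ShortComplex.moduleCat_exact_iff _).2 fun y hy => (h y).1 hy
  exact ((ShortComplex.exact_iff_isZero_homology _).1 h2).of_iso
    ((((torFlip R (n + 1)).app M).app (ModuleCat.of R N)) ≪≫
      (((torIso R n).app (ModuleCat.of R N)).app M))

variable (L : Type u) [CommRing L] [Algebra R L]

/-- Killing a regular sequence which stays regular after `⊗ M` keeps Tor with `M` zero. -/
theorem ex_quotient : ∀ (zs : List L) (N : Type u) [AddCommGroup N] [Module R N] [Module L N]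
    [IsScalarTower R L N], (∀ n, Ex M n N) → IsWeaklyRegular N zs → IsWeaklyRegular (N ⊗[R] M) zs →
      ∀ n, Ex M n (N ⧸ (Ideal.ofList zs • ⊤ : Submodule L N)) := by
  have congrEx : ∀ {N N' : Type u} [AddCommGroup N] [Module R N] [AddCommGroup N'] [Module R N']
      (e : N ≃ₗ[R] N') (n : ℕ), Ex M n N → Ex M n N' := by
    intro N N' _ _ _ _ e n h z
    refine ⟨fun hz => ?_, fun ⟨w, hw⟩ => hw ▸ lTensor_dn_dn M n N' w⟩
    obtain ⟨w, hw⟩ := (h (e.symm.toLinearMap.rTensor _ z)).1 (by rw [← comm_apply, hz, map_zero])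
    refine ⟨e.toLinearMap.rTensor _ w, ?_⟩
    rw [← comm_apply, hw, ← LinearMap.rTensor_comp_apply]
    simp
  intro zs
  induction zs with
  | nil =>
    intro N _ _ _ _ h _ _ n
    exact congrEx ((Submodule.quotEquivOfEqBot _ (by simp)).symm.restrictScalars R) n (h n)
  | cons z zs ih =>
    intro N _ _ _ _ h hN hNM n
    rw [isWeaklyRegular_cons_iff] at hN hNM
    let i : N →ₗ[R] N := (LinearMap.lsmul L N z).restrictScalars R
    let p : N →ₗ[R] QuotSMulTop z N := (Submodule.mkQ _).restrictScalars R
    have hi : Function.Injective i := hN.1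
    have hp : Function.Surjective p := Submodule.mkQ_surjective _
    have hex : Function.Exact i p := fun y => by
      change Submodule.Quotient.mk y = 0 ↔ y ∈ Set.range (fun x : N => z • x)
      rw [Submodule.Quotient.mk_eq_zero, Submodule.mem_smul_pointwise_iff_exists]
      exact ⟨fun ⟨b, _, hb⟩ => ⟨b, hb⟩, fun ⟨b, hb⟩ => ⟨b, trivial, hb⟩⟩
    have hiM : Function.Injective (i.rTensor M) := by
      have : (i.rTensor M : N ⊗[R] M → N ⊗[R] M) = fun w => z • w := funext fun w => by
        induction w with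
        | zero => simp
        | tmul a m => rw [LinearMap.rTensor_tmul, TensorProduct.smul_tmul']; rfl
        | add a b ha hb => rw [map_add, ha, hb, smul_add]
      rw [this]
      exact hNM.1
    have h3 : ∀ m, Ex M m (QuotSMulTop z N) := by
      intro m
      cases m with
      | zero => exact ex_right_zero M hi hp hex (h 0) hiM
      | succ m => exact ex_right M hi hp hex (h (m + 1)) (h m)
    let ML := L ⊗[R] M
    let e : (QuotSMulTop z N) ⊗[R] M ≃ₗ[L] QuotSMulTop z (N ⊗[R] M) :=
      (TensorProduct.AlgebraTensorModule.cancelBaseChange R L L (QuotSMulTop z N) M).symm ≪≫ₗ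
        QuotSMulTop.quotSMulTopTensorEquivQuotSMulTop z ML N ≪≫ₗ
        QuotSMulTop.congr z (TensorProduct.AlgebraTensorModule.cancelBaseChange R L L N M)
    exact congrEx (((Submodule.quotOfListConsSMulTopEquivQuotSMulTopInner N z zs).symm).restrictScalars R) n
      (ih (QuotSMulTop z N) h3 hN.2 ((e.isWeaklyRegular_congr zs).2 hNM.2) n)

theorem ex_of_equiv {N N' : Type u} [AddCommGroup N] [Module R N] [AddCommGroup N'] [Module R N']
    (e : N ≃ₗ[R] N') {n : ℕ} (h : Ex M n N) : Ex M n N' := fun z => by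
  refine ⟨fun hz => ?_, fun ⟨w, hw⟩ => hw ▸ lTensor_dn_dn M n N' w⟩
  obtain ⟨w, hw⟩ := (h (e.symm.toLinearMap.rTensor _ z)).1 (by rw [← comm_apply, hz, map_zero])
  refine ⟨e.toLinearMap.rTensor _ w, ?_⟩
  rw [← comm_apply, hw, ← LinearMap.rTensor_comp_apply]
  simp

/-- Tor vanishing is local on the prime spectrum. -/
theorem ex_of_localized (n : ℕ) (N : Type u) [AddCommGroup N] [Module R N]
    (h : ∀ (p : Ideal R) [p.IsPrime], Ex M n (Localization.AtPrime p ⊗[R] N)) : Ex M n N := fun z => by
  refine ⟨fun hz => ?_, fun ⟨w, hw⟩ => hw ▸ lTensor_dn_dn M n N w⟩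
  let f := (dn M (n + 1)).lTensor N
  let q := (LinearMap.range f).mkQ
  suffices hq : q z = 0 by rwa [Submodule.mkQ_apply, Submodule.Quotient.mk_eq_zero] at hq
  haveI : ∀ (P : Ideal R) [P.IsMaximal], IsLocalizedModule P.primeCompl
      (TensorProduct.mk R (Localization.AtPrime P) (N ⊗[R] Pn M (n + 1) ⧸ LinearMap.range f) 1) := fun P _ =>
    (isLocalizedModule_iff_isBaseChange P.primeCompl (Localization.AtPrime P) _).mpr
      (TensorProduct.isBaseChange R _ _)
  refine Module.eq_zero_of_localization_maximal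
    (Mₚ := fun P _ => Localization.AtPrime P ⊗[R] (N ⊗[R] Pn M (n + 1) ⧸ LinearMap.range f))
    (fun P _ => TensorProduct.mk R (Localization.AtPrime P) _ 1) _ fun P _ => ?_
  let a : ∀ k, (Localization.AtPrime P ⊗[R] N) ⊗[R] Pn M k ≃ₗ[R] Localization.AtPrime P ⊗[R] (N ⊗[R] Pn M k) :=
    fun k => TensorProduct.assoc R _ _ _
  have hc : ∀ k w, a k ((dn M k).lTensor _ w) =
      LinearMap.lTensor (Localization.AtPrime P) ((dn M k).lTensor N) (a (k + 1) w) := fun k w => by
    induction w with
    | zero => simp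
    | tmul x m =>
      induction x with
      | zero => simp
      | tmul l y => simp [a]
      | add x y hx hy => simp only [add_tmul, map_add, hx, hy]
    | add x y hx hy => simp only [map_add, hx, hy]
  obtain ⟨w, hw⟩ := ((h P) ((a (n + 1)).symm (1 ⊗ₜ[R] z))).1 ((a n).injective (by
    rw [hc, LinearEquiv.apply_symm_apply, LinearMap.lTensor_tmul, hz, tmul_zero, map_zero]))
  have hw' := congrArg (a (n + 1)) hw
  rw [hc, LinearEquiv.apply_symm_apply] at hw'
  change (1 : Localization.AtPrime P) ⊗ₜ[R] q z = 0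
  rw [← LinearMap.lTensor_tmul, ← hw', ← LinearMap.lTensor_comp_apply,
    LinearMap.range_mkQ_comp, LinearMap.lTensor_zero, LinearMap.zero_apply]

end Groth.Agent.H17.CMInter
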